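import Mathlib

/-!
Inequalities between geometric sums used for orders of semilinear automorphisms.
-/

set_option autoImplicit false

namespace CfsgLib.AutOrder51

open Finset

/-- `1 + q + ⋯ + q^(e-1)` -/
def gs (q e : ℕ) : ℕ := ∑ i ∈ range e, q ^ i

theorem gs_succ (q e : ℕ) : gs q (e + 1) = q * gs q e + 1 := by
  simp [gs, sum_range_succ', mul_sum, pow_succ, mul_comm]

theorem gs_zero (q : ℕ) : gs q 0 = 0 := rfl

theorem one_le_gs (q : ℕ) {e : ℕ} (he : 1 ≤ e) : 1 ≤ gs q e := by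
  obtain ⟨k, rfl⟩ : ∃ k, e = k + 1 := ⟨e - 1, by omega⟩
  rw [gs_succ]; omega

theorem gs_mul (q e : ℕ) (hq : 1 ≤ q) : (q - 1) * gs q e = q ^ e - 1 := by
  induction e with
  | zero => simp [gs_zero]
  | succ e ih =>
    have h1 := Nat.one_le_pow e q hq
    have h2 : q ^ e ≤ q ^ (e + 1) := Nat.pow_le_pow_right hq (by omega)
    rw [gs_succ, mul_add, mul_one, mul_left_comm, ih, Nat.mul_sub, mul_one, ← pow_succ']
    have h3 : q ≤ q ^ (e + 1) := Nat.le_self_pow (by omega) q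
    omega

theorem gs_mono {a b : ℕ} (h : a ≤ b) (e : ℕ) : gs a e ≤ gs b e :=
  sum_le_sum fun _ _ => Nat.pow_le_pow_left h _

theorem mul_gs_le {q e d : ℕ} (hq : 2 ≤ q) (hd : 2 ≤ d) (hne : ¬ (q = 2 ∧ e = 2 ∧ d = 2)) :
    e * gs q e ≤ gs (q ^ d) e := by
  by_cases h22 : q = 2 ∧ e = 2
  · obtain ⟨rfl, rfl⟩ := h22
    have : (2 : ℕ) ^ 3 ≤ 2 ^ d := Nat.pow_le_pow_right (by omega) (by omega)
    simp only [gs_succ, gs_zero]
    omega
  refine le_trans ?_ (gs_mono (Nat.pow_le_pow_right (by omega) hd) e)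
  match e, h22 with
  | 0, _ => simp [gs_zero]
  | 1, _ => simp [gs_succ, gs_zero]
  | 2, h22 =>
    have : 3 ≤ q := by omega
    simp only [gs_succ, gs_zero]
    nlinarith
  | k + 3, _ =>
    induction k with
    | zero =>
      simp only [gs_succ, gs_zero]
      nlinarith [Nat.mul_le_mul hq (le_refl q), Nat.mul_le_mul (Nat.mul_le_mul hq hq) (le_refl (q * q))]
    | succ k ih =>
      specialize ih (by omega) (by omega)
      have h1 := one_le_gs q (e := k + 3) (by omega)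
      rw [show k + 1 + 3 = (k + 3) + 1 by omega, gs_succ, gs_succ (q ^ 2)]
      have h2 : (k + 4) * (q + 1) ≤ q ^ 2 * (k + 3) := by
        nlinarith [Nat.mul_le_mul hq (le_refl (q * (k + 3))), Nat.mul_le_mul hq (le_refl (k + 3))]
      calc (k + 3 + 1) * (q * gs q (k + 3) + 1)
          ≤ (k + 4) * ((q + 1) * gs q (k + 3)) := Nat.mul_le_mul_left _ (by rw [add_one_mul]; omega)
        _ ≤ q ^ 2 * (k + 3) * gs q (k + 3) := by rw [← mul_assoc]; exact Nat.mul_le_mul_right _ h2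
        _ ≤ _ := by rw [mul_assoc]; exact (Nat.mul_le_mul_left _ ih).trans (Nat.le_succ _)

theorem two_mul_gs_le {q e d : ℕ} (hq : 2 ≤ q) (hd : 3 ≤ d) (he : 2 ≤ e) (hne : ¬ (q = 2 ∧ e = 2)) :
    2 * (e * gs q e) ≤ gs (q ^ d) e := by
  refine le_trans ?_ (gs_mono (Nat.pow_le_pow_right (by omega) hd) e)
  induction e, he using Nat.le_induction with
  | base =>
    have : 3 ≤ q := by omega
    simp only [gs_succ, gs_zero]
    nlinarith [Nat.mul_le_mul this this]
  | succ e he ih =>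
    by_cases h : q = 2 ∧ e = 2
    · obtain ⟨rfl, rfl⟩ := h
      simp [gs_succ, gs_zero]
    specialize ih h
    have h1 := one_le_gs q (e := e) (by omega)
    rw [gs_succ, gs_succ (q ^ 3)]
    have h2 : (e + 1) * (q + 1) ≤ q ^ 3 * e := by
      nlinarith [Nat.mul_le_mul hq hq, Nat.mul_le_mul (Nat.mul_le_mul hq hq) hq, Nat.mul_le_mul he hq]
    calc 2 * ((e + 1) * (q * gs q e + 1))
        ≤ 2 * ((e + 1) * ((q + 1) * gs q e)) := by
          refine Nat.mul_le_mul_left _ (Nat.mul_le_mul_left _ ?_)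
          rw [add_one_mul]; omega
      _ ≤ 2 * (q ^ 3 * e * gs q e) := by
          rw [← mul_assoc (e + 1)]; exact Nat.mul_le_mul_left _ (Nat.mul_le_mul_right _ h2)
      _ = q ^ 3 * (2 * (e * gs q e)) := by ring
      _ ≤ _ := (Nat.mul_le_mul_left _ ih).trans (Nat.le_succ _)

/-- From a bound in the fixed field to a bound in the field. -/
theorem bound_of_fixed {q e d k c o : ℕ} (hq : 2 ≤ q) (hc : c * (e * gs q e) ≤ gs (q ^ d) e)
    (hk : (q - 1) * k ≤ q ^ d - 1) (ho : o ≤ c * e * k) : (q ^ e - 1) * o ≤ (q ^ e) ^ d - 1 := by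
  rw [← pow_mul, mul_comm e d, pow_mul, ← gs_mul q e (by omega),
    ← gs_mul (q ^ d) e (Nat.one_le_pow _ _ (by omega))]
  calc (q - 1) * gs q e * o ≤ (q - 1) * gs q e * (c * e * k) := Nat.mul_le_mul_left _ ho
    _ = (q - 1) * k * (c * (e * gs q e)) := by ring
    _ ≤ _ := Nat.mul_le_mul hk hc

end CfsgLib.AutOrder51
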