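import Mathlib

/-!
Projective exponents of polynomials over a finite field, and a factor two for polynomials that are
reciprocal up to a field automorphism.
-/

set_option autoImplicit false

namespace CfsgLib.AutOrder51

open Polynomial

set_option linter.unusedSectionVars false

variable {K : Type*} [Field K] [Finite K] {μ : K[X]}

theorem isUnit_mk_of_isCoprime {f : K[X]} (h : IsCoprime f μ) : IsUnit (AdjoinRoot.mk μ f) := by
  obtain ⟨s, t, hst⟩ := h
  refine IsUnit.of_mul_eq_one_right (AdjoinRoot.mk μ s) ?_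
  have := congrArg (AdjoinRoot.mk μ) hst
  rwa [map_add, map_mul, map_mul, AdjoinRoot.mk_self, mul_zero, add_zero, map_one] at this

theorem finite_adjoinRoot (hμ : μ.Monic) : Finite (AdjoinRoot μ) := by
  have : Module.Finite K (AdjoinRoot μ) := (AdjoinRoot.powerBasis' hμ).finite
  exact Module.finite_of_finite K

theorem natCard_adjoinRoot (hμ : μ.Monic) : Nat.card (AdjoinRoot μ) = Nat.card K ^ μ.natDegree := by
  have : Module.Finite K (AdjoinRoot μ) := (AdjoinRoot.powerBasis' hμ).finite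
  rw [Module.natCard_eq_pow_finrank (K := K), (AdjoinRoot.powerBasis' hμ).finrank,
    AdjoinRoot.powerBasis'_dim]

theorem root_isUnit (h0 : μ.coeff 0 ≠ 0) : IsUnit (AdjoinRoot.root μ) := by
  rw [← AdjoinRoot.mk_X]
  exact isUnit_mk_of_isCoprime (irreducible_X.coprime_iff_not_dvd.2 fun h => h0 (X_dvd_iff.1 h))

/-- The scalar units of `K[X]/(μ)`. -/
noncomputable def scalars (μ : K[X]) : Subgroup (AdjoinRoot μ)ˣ :=
  (Units.map (algebraMap K (AdjoinRoot μ)).toMonoidHom).range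

theorem index_scalars (hμ : μ.Monic) (hd : 1 ≤ μ.natDegree) :
    (Nat.card K - 1) * (scalars μ).index ≤ Nat.card K ^ μ.natDegree - 1 := by
  have : Finite (AdjoinRoot μ) := finite_adjoinRoot hμ
  have : Nontrivial (AdjoinRoot μ) := AdjoinRoot.nontrivial _ fun h => by
    have := natDegree_eq_of_degree_eq_some (n := 0) h; omega
  have hinj : Function.Injective (Units.map (algebraMap K (AdjoinRoot μ)).toMonoidHom) :=
    Units.map_injective (algebraMap K (AdjoinRoot μ)).injective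
  have hcard : Nat.card (scalars μ) = Nat.card K - 1 := by
    rw [← Nat.card_units, scalars]
    exact Nat.card_congr (MonoidHom.ofInjective hinj).symm.toEquiv
  rw [← hcard, Subgroup.card_mul_index, ← natCard_adjoinRoot hμ]
  have := Fintype.ofFinite (AdjoinRoot μ)
  have := Fintype.ofFinite (AdjoinRoot μ)ˣ
  rw [Nat.card_eq_fintype_card, Nat.card_eq_fintype_card]
  have h1 := Fintype.card_lt_of_injective_of_notMem ((↑) : (AdjoinRoot μ)ˣ → AdjoinRoot μ)
    Units.val_injective (b := 0) (by rintro ⟨u, hu⟩; exact u.ne_zero hu)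
  omega

theorem dvd_of_root_pow {k : ℕ} {c : K} (h : AdjoinRoot.root μ ^ k = algebraMap K (AdjoinRoot μ) c) :
    μ ∣ X ^ k - C c := by
  rw [← AdjoinRoot.mk_eq_zero, map_sub, map_pow, AdjoinRoot.mk_X, AdjoinRoot.mk_C, h,
    AdjoinRoot.algebraMap_eq, sub_self]

theorem exists_projective_exponent (hμ : μ.Monic) (h0 : μ.coeff 0 ≠ 0) (hd : 1 ≤ μ.natDegree) :
    ∃ k, 0 < k ∧ (∃ c : K, μ ∣ X ^ k - C c) ∧ (Nat.card K - 1) * k ≤ Nat.card K ^ μ.natDegree - 1 := by
  have : Finite (AdjoinRoot μ) := finite_adjoinRoot hμ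
  let x : (AdjoinRoot μ)ˣ ⧸ scalars μ := QuotientGroup.mk (root_isUnit h0).unit
  refine ⟨orderOf x, orderOf_pos x, ?_, le_trans (Nat.mul_le_mul_left _ ?_) (index_scalars hμ hd)⟩
  · have h1 := pow_orderOf_eq_one x
    rw [← QuotientGroup.mk_pow, QuotientGroup.eq_one_iff] at h1
    obtain ⟨c, hc⟩ := h1
    refine ⟨c, dvd_of_root_pow ?_⟩
    have := congrArg Units.val hc
    simpa using this.symm
  · exact Nat.le_of_dvd (Nat.pos_of_ne_zero Subgroup.index_ne_zero_of_finite) (orderOf_dvd_natCard x)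

theorem exists_exponent_card_two {d : ℕ} (hK : Nat.card K = 2) (hd4 : 4 ≤ d) (hdd : μ.natDegree = d)
    (hdvd : μ ∣ X ^ 2 ^ (d - 1) - C 1) :
    ∃ k, 0 < k ∧ μ ∣ X ^ k - C 1 ∧ 2 * k ≤ 2 ^ d - 1 := by
  have := Fintype.ofFinite K
  obtain ⟨p, hp⟩ := CharP.exists K
  have : Fact p.Prime := ⟨CharP.char_is_prime K p⟩
  obtain ⟨m, -, hm⟩ := FiniteField.card K p
  obtain rfl : p = 2 := by
    have h2 : p ∣ 2 := by
      rw [← hK, Nat.card_eq_fintype_card, hm]; exact dvd_pow_self p m.ne_zero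
    exact (Nat.prime_dvd_prime_iff_eq Fact.out Nat.prime_two).1 h2
  rw [C_1, show (X ^ 2 ^ (d - 1) - 1 : K[X]) = (X - 1) ^ 2 ^ (d - 1) by rw [sub_pow_char_pow, one_pow]]
    at hdvd
  obtain ⟨i, -, hi⟩ := (dvd_prime_pow (by simpa using prime_X_sub_C (1 : K)) _).1 hdvd
  have hid : i = d := by
    have := natDegree_eq_of_degree_eq (degree_eq_degree_of_associated hi)
    rw [natDegree_pow, ← C_1, natDegree_X_sub_C, mul_one, hdd] at this
    exact this.symm
  refine ⟨2 ^ (d - 2), pow_pos two_pos _, hi.dvd.trans ?_, ?_⟩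
  · rw [C_1, show (X ^ 2 ^ (d - 2) - 1 : K[X]) = (X - 1) ^ 2 ^ (d - 2) by rw [sub_pow_char_pow, one_pow]]
    refine pow_dvd_pow _ ?_
    rw [hid]
    clear * - hd4
    induction d, hd4 using Nat.le_induction with
    | base => norm_num
    | succ n hn ih => rw [show n + 1 - 2 = n - 2 + 1 by omega, pow_succ]; omega
  · have h1 : 4 * 2 ^ (d - 2) = 2 ^ d := by
      rw [show (4 : ℕ) = 2 ^ 2 by norm_num, ← pow_add]; congr 1; omega
    have := Nat.one_le_pow d 2 two_pos
    omega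

/-- If every nonzero element is a root then `x ^ (q - 1)` lies in a small unit group. -/
theorem exists_exponent_of_all_roots (hμ : μ.Monic) (h0 : μ.coeff 0 ≠ 0) (hd : 3 ≤ μ.natDegree)
    (hex : ¬ (Nat.card K = 2 ∧ μ.natDegree = 3)) (hroot : ∀ a : K, a ≠ 0 → μ.IsRoot a) :
    ∃ k, 0 < k ∧ (∃ c : K, μ ∣ X ^ k - C c) ∧
      2 * ((Nat.card K - 1) * k) ≤ Nat.card K ^ μ.natDegree - 1 := by
  classical
  have := Fintype.ofFinite K
  set q := Nat.card K with hq
  set d := μ.natDegree with hdd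
  set P : K[X] := ∏ a ∈ Finset.univ.erase (0 : K), (X - C a) with hP
  have hq2 : 2 ≤ q := by rw [hq, Nat.card_eq_fintype_card]; exact Fintype.one_lt_card
  have hPd : P.natDegree = q - 1 := by
    rw [hP, natDegree_prod _ _ fun a _ => X_sub_C_ne_zero a]
    simp [hq, Nat.card_eq_fintype_card]
  have hPm : P.Monic := monic_prod_of_monic _ _ fun a _ => monic_X_sub_C a
  have hcop : Set.Pairwise (↑(Finset.univ.erase (0 : K)) : Set K)
      (Function.onFun IsCoprime fun a => X - C a) := fun a _ b _ hab =>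
    isCoprime_X_sub_C_of_isUnit_sub (sub_ne_zero.2 hab).isUnit
  have hPμ : P ∣ μ := Finset.prod_dvd_of_coprime hcop fun a ha =>
    dvd_iff_isRoot.2 (hroot a (Finset.mem_erase.1 ha).1)
  have hPX : P ∣ X ^ (q - 1) - 1 := Finset.prod_dvd_of_coprime hcop fun a ha => by
    rw [dvd_iff_isRoot, IsRoot, eval_sub, eval_pow, eval_X, eval_one, hq, Nat.card_eq_fintype_card,
      FiniteField.pow_card_sub_one_eq_one a (Finset.mem_erase.1 ha).1, sub_self]
  have : Finite (AdjoinRoot μ) := finite_adjoinRoot hμ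
  have : Finite (AdjoinRoot P) := finite_adjoinRoot hPm
  let π : AdjoinRoot μ →+* AdjoinRoot P :=
    AdjoinRoot.lift (AdjoinRoot.of P) (AdjoinRoot.root P) (by
      rw [← AdjoinRoot.algebraMap_eq, ← aeval_def, AdjoinRoot.aeval_eq, AdjoinRoot.mk_eq_zero]
      exact hPμ)
  have hπmk : ∀ f : K[X], π (AdjoinRoot.mk μ f) = AdjoinRoot.mk P f := fun f => by
    rw [AdjoinRoot.lift_mk, ← AdjoinRoot.algebraMap_eq, ← aeval_def, AdjoinRoot.aeval_eq]
  have hsurj : Function.Surjective π := fun y => by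
    obtain ⟨f, rfl⟩ := AdjoinRoot.mk_surjective y
    exact ⟨_, hπmk f⟩
  let W := (Units.map π.toMonoidHom).ker
  set x : (AdjoinRoot μ)ˣ := (root_isUnit h0).unit
  have hx : x ^ (q - 1) ∈ W := by
    rw [MonoidHom.mem_ker]
    apply Units.ext
    have h1 : AdjoinRoot.mk P (X ^ (q - 1) - 1) = 0 := AdjoinRoot.mk_eq_zero.2 hPX
    rw [map_sub, map_pow, map_one, sub_eq_zero] at h1
    rw [Units.coe_map, Units.val_pow_eq_pow_val, Units.val_one]
    show π (AdjoinRoot.root μ ^ (q - 1)) = 1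
    rw [map_pow, ← AdjoinRoot.mk_X, hπmk, h1]
  have hW : Nat.card W * q ^ (q - 1) ≤ q ^ d := by
    rw [← natCard_adjoinRoot hμ, ← hPd, ← natCard_adjoinRoot hPm,
      ← AddSubgroup.card_mul_index π.toAddMonoidHom.ker, AddSubgroup.index_ker,
      (AddMonoidHom.range_eq_top (f := π.toAddMonoidHom)).2 hsurj, AddSubgroup.card_top]
    refine Nat.mul_le_mul_right _ (Nat.card_le_card_of_injective
      (fun u : W => (⟨(u.1 : AdjoinRoot μ) - 1, ?_⟩ : π.toAddMonoidHom.ker)) fun u v huv => ?_)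
    · have h1 : π (u.1 : AdjoinRoot μ) = 1 := congrArg Units.val (MonoidHom.mem_ker.1 u.2)
      rw [AddMonoidHom.mem_ker, RingHom.toAddMonoidHom_eq_coe, AddMonoidHom.coe_coe, map_sub, h1,
        map_one, sub_self]
    · exact Subtype.ext (Units.ext (sub_left_inj.1 (congrArg Subtype.val huv)))
  have hxpow : AdjoinRoot.root μ ^ ((q - 1) * Nat.card W) = algebraMap K (AdjoinRoot μ) 1 := by
    have h1 : (⟨_, hx⟩ : W) ^ Nat.card W = 1 := pow_card_eq_one'
    rw [Subtype.ext_iff, SubmonoidClass.coe_pow, ← pow_mul, OneMemClass.coe_one] at h1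
    have h2 := congrArg Units.val h1
    rw [Units.val_pow_eq_pow_val, Units.val_one] at h2
    rw [map_one]; exact h2
  rcases Nat.lt_or_ge q 3 with hq3 | hq3
  · obtain hq2' : q = 2 := by omega
    rw [hq2'] at hW hxpow hex ⊢
    simp only [Nat.add_one_sub_one, one_mul, pow_one] at hW hxpow ⊢
    rcases (Nat.lt_or_ge (2 * Nat.card W) (2 ^ d)) with hlt | hge
    · exact ⟨Nat.card W, Nat.card_pos, ⟨1, dvd_of_root_pow hxpow⟩, by omega⟩
    · have hd4 : 4 ≤ d := by omega
      have hW' : Nat.card W = 2 ^ (d - 1) := by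
        have : 2 * 2 ^ (d - 1) = 2 ^ d := by rw [← pow_succ']; congr 1; omega
        omega
      have hdv := dvd_of_root_pow hxpow
      rw [hW'] at hdv
      obtain ⟨k, hk0, hk, hle⟩ := exists_exponent_card_two (hq.symm.trans hq2') hd4 hdd.symm hdv
      exact ⟨k, hk0, ⟨1, hk⟩, hle⟩
  · refine ⟨(q - 1) * Nat.card W, Nat.mul_pos (by omega) Nat.card_pos, ⟨1, dvd_of_root_pow hxpow⟩, ?_⟩
    have h2 : 2 * ((q - 1) * (q - 1)) < q ^ (q - 1) := by
      rcases Nat.lt_or_ge q 4 with h | h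
      · obtain hq' : q = 3 := by omega
        rw [hq']; norm_num
      · have : q ^ 3 ≤ q ^ (q - 1) := Nat.pow_le_pow_right (by omega) (by omega)
        have h3 : 2 * ((q - 1) * (q - 1)) ≤ 2 * (q * q) :=
          Nat.mul_le_mul_left _ (Nat.mul_le_mul (Nat.sub_le _ _) (Nat.sub_le _ _))
        nlinarith
    have h3 : (2 * ((q - 1) * (q - 1)) + 1) * Nat.card W ≤ q ^ d :=
      le_trans (Nat.mul_le_mul_right _ h2) (by rwa [mul_comm])
    have h4 : 1 ≤ Nat.card W := Nat.card_pos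
    rw [add_one_mul] at h3
    rw [← mul_assoc (q - 1), ← mul_assoc 2]
    omega

theorem exists_exponent_of_reciprocal (hμ : μ.Monic) (h0 : μ.coeff 0 ≠ 0) (hd : 3 ≤ μ.natDegree)
    (hex : ¬ (Nat.card K = 2 ∧ μ.natDegree = 3)) (σ : K ≃+* K)
    (hrec : μ ∣ μ.reverse.map σ.toRingHom) :
    ∃ k, 0 < k ∧ (∃ c : K, μ ∣ X ^ k - C c) ∧
      2 * ((Nat.card K - 1) * k) ≤ Nat.card K ^ μ.natDegree - 1 := by
  by_cases hall : ∀ a : K, a ≠ 0 → μ.IsRoot a
  · exact exists_exponent_of_all_roots hμ h0 hd hex hall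
  push Not at hall
  obtain ⟨a, ha0, ha⟩ := hall
  have : Finite (AdjoinRoot μ) := finite_adjoinRoot hμ
  let A := algebraMap K (AdjoinRoot μ)
  set x := (root_isUnit h0).unit with hxdef
  set k := orderOf (QuotientGroup.mk x : (AdjoinRoot μ)ˣ ⧸ scalars μ) with hk
  by_cases h2k : 2 * k ≤ (scalars μ).index
  · refine ⟨k, orderOf_pos (QuotientGroup.mk x : (AdjoinRoot μ)ˣ ⧸ scalars μ), ?_, ?_⟩
    · have h1 := pow_orderOf_eq_one (QuotientGroup.mk x : (AdjoinRoot μ)ˣ ⧸ scalars μ)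
      rw [← QuotientGroup.mk_pow, QuotientGroup.eq_one_iff] at h1
      obtain ⟨c, hc⟩ := h1
      exact ⟨c, dvd_of_root_pow (by simpa [x] using (congrArg Units.val hc).symm)⟩
    · have := index_scalars hμ (by omega)
      calc 2 * ((Nat.card K - 1) * k) = (Nat.card K - 1) * (2 * k) := by ring
        _ ≤ _ := (Nat.mul_le_mul_left _ h2k).trans this
  -- otherwise the root generates the units modulo scalars
  exfalso
  have hgen : ∀ u : (AdjoinRoot μ)ˣ, ∃ (j : ℕ) (c : K), (u : AdjoinRoot μ) = AdjoinRoot.root μ ^ j * A c := by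
    intro u
    have hkI : k = Nat.card ((AdjoinRoot μ)ˣ ⧸ scalars μ) := by
      obtain ⟨t, ht⟩ := orderOf_dvd_natCard (QuotientGroup.mk x : (AdjoinRoot μ)ˣ ⧸ scalars μ)
      rw [← hk] at ht
      have hI : (scalars μ).index = k * t := ht
      rcases t with _ | _ | t
      · exact absurd (hI.trans (mul_zero k)) Subgroup.index_ne_zero_of_finite
      · simpa using ht.symm
      · exact absurd (by rw [hI, mul_comm 2]; exact Nat.mul_le_mul_left _ (by omega)) h2k
    have htop : Subgroup.zpowers (QuotientGroup.mk x : (AdjoinRoot μ)ˣ ⧸ scalars μ) = ⊤ :=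
      Subgroup.eq_top_of_card_eq _ (by rw [Nat.card_zpowers, ← hk, hkI])
    obtain ⟨j, hj⟩ := mem_powers_iff_mem_zpowers.2
      (htop.symm ▸ Subgroup.mem_top (QuotientGroup.mk u : (AdjoinRoot μ)ˣ ⧸ scalars μ))
    simp only [← QuotientGroup.mk_pow, QuotientGroup.eq] at hj
    obtain ⟨c, hc⟩ := hj
    refine ⟨j, c, ?_⟩
    have h1 := congrArg Units.val (eq_inv_mul_iff_mul_eq.1 hc)
    rw [Units.val_mul, Units.val_pow_eq_pow_val] at h1
    exact h1.symm
  let xinv : AdjoinRoot μ := ((x⁻¹ : (AdjoinRoot μ)ˣ) : AdjoinRoot μ)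
  have hxv : AdjoinRoot.root μ * xinv = 1 := x.mul_inv
  have hev : μ.eval₂ (A.comp σ.toRingHom) xinv = 0 := by
    let : Invertible xinv := ⟨AdjoinRoot.root μ, x.mul_inv, x.inv_mul⟩
    rw [← eval₂_reverse_eq_zero_iff]
    show μ.reverse.eval₂ (A.comp σ.toRingHom) (AdjoinRoot.root μ) = 0
    rw [← eval₂_map]
    obtain ⟨r, hr⟩ := hrec
    rw [hr, eval₂_mul, show A = AdjoinRoot.of μ from AdjoinRoot.algebraMap_eq μ, AdjoinRoot.eval₂_root,
      zero_mul]
  let ι : AdjoinRoot μ →+* AdjoinRoot μ := AdjoinRoot.lift (A.comp σ.toRingHom) xinv hev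
  have hιroot : ι (AdjoinRoot.root μ) = xinv := AdjoinRoot.lift_root hev
  have hιA : ∀ c, ι (A c) = A (σ c) := fun c => by
    show ι (algebraMap K (AdjoinRoot μ) c) = _
    rw [AdjoinRoot.algebraMap_eq, AdjoinRoot.lift_of hev]; rfl
  have hu : IsUnit (AdjoinRoot.root μ - A a) := by
    have : AdjoinRoot.root μ - A a = AdjoinRoot.mk μ (X - C a) := by
      rw [map_sub, AdjoinRoot.mk_X, AdjoinRoot.mk_C]; rfl
    rw [this]
    exact isUnit_mk_of_isCoprime
      ((irreducible_X_sub_C a).coprime_iff_not_dvd.2 fun h => ha (dvd_iff_isRoot.1 h))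
  obtain ⟨j, c, hjc⟩ := hgen hu.unit
  rw [IsUnit.unit_spec] at hjc
  have h1 := congrArg ι hjc
  rw [map_sub, hιroot, hιA, map_mul, map_pow, hιroot, hιA] at h1
  have h2 : (xinv - A (σ a)) * (AdjoinRoot.root μ - A a) = A (σ c * c) := by
    rw [h1, hjc, map_mul]
    calc xinv ^ j * A (σ c) * (AdjoinRoot.root μ ^ j * A c)
        = (AdjoinRoot.root μ * xinv) ^ j * (A (σ c) * A c) := by ring
      _ = _ := by rw [hxv, one_pow, one_mul]
  set f : K[X] := C (σ a) * X ^ 2 + C (σ c * c - 1 - σ a * a) * X + C a with hf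
  have hf0 : f ≠ 0 := fun h => ha0 (by
    have := congrArg (fun p => coeff p 0) h
    simpa [hf, coeff_X_pow] using this)
  have hdvd : μ ∣ f := by
    rw [← AdjoinRoot.mk_eq_zero, hf]
    simp only [map_add, map_mul, map_pow, AdjoinRoot.mk_X, AdjoinRoot.mk_C, ← AdjoinRoot.algebraMap_eq]
    simp only [map_sub, map_mul, map_one]
    rw [map_mul] at h2
    linear_combination -(AdjoinRoot.root μ) * h2 + (AdjoinRoot.root μ - A a) * hxv
  have := natDegree_le_of_dvd hdvd hf0
  have h3 : f.natDegree ≤ 2 := natDegree_quadratic_le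
  omega

end CfsgLib.AutOrder51
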