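import Mathlib
import Cfsg.Agent.Lib.AutOrder51.Arith
import Cfsg.Agent.Lib.AutOrder51.Poly
import Cfsg.Agent.Lib.ReciprocalOrder.Matrix
import Cfsg.Agent.Lib.AutPSL.Main
import Cfsg.Agent.Lib.AutPSL.Coset

/-!
Every automorphism of `PSL_d(q)` has order at most `(q^d - 1)/(q - 1)`.
-/

set_option autoImplicit false
set_option linter.unusedSectionVars false

namespace CfsgLib.AutOrder51

open Matrix Polynomial CfsgLib.AutPSL CfsgLib.FieldGalois

section matrix

variable {F : Type*} [Field F] {n : ℕ}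

local notation "MM" => Matrix (Fin n) (Fin n) F

theorem aeval_transpose (A : MM) (P : F[X]) : aeval Aᵀ P = (aeval A P)ᵀ := by
  induction P using Polynomial.induction_on' with
  | add P Q hP hQ => rw [map_add, map_add, hP, hQ, transpose_add]
  | monomial j a =>
    rw [aeval_monomial, aeval_monomial, Algebra.algebraMap_eq_smul_one, smul_mul_assoc, one_mul,
      smul_mul_assoc, one_mul, transpose_smul, transpose_pow]

theorem aeval_map_ringEquiv (σ : F ≃+* F) (A : MM) (P : F[X]) :
    aeval (A.map σ) (P.map σ.toRingHom) = (aeval A P).map σ := by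
  induction P using Polynomial.induction_on' with
  | add P Q hP hQ =>
    rw [Polynomial.map_add, map_add, map_add, hP, hQ, Matrix.map_add _ (map_add σ)]
  | monomial j a =>
    rw [Polynomial.map_monomial, aeval_monomial, aeval_monomial, Algebra.algebraMap_eq_smul_one,
      Algebra.algebraMap_eq_smul_one, smul_mul_assoc, one_mul, smul_mul_assoc, one_mul,
      Matrix.map_smul' _ _ _ (map_mul σ)]
    congr 1
    exact (map_pow σ.toRingHom.mapMatrix A j).symm

theorem aeval_units_conj (g : GL (Fin n) F) (A : MM) (P : F[X]) :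
    aeval ((g⁻¹ : GL (Fin n) F).1 * A * g.1) P = (g⁻¹ : GL (Fin n) F).1 * aeval A P * g.1 := by
  induction P using Polynomial.induction_on' with
  | add P Q hP hQ => rw [map_add, map_add, hP, hQ, mul_add, add_mul]
  | monomial j a =>
    rw [aeval_monomial, aeval_monomial, Units.conj_pow', Algebra.algebraMap_eq_smul_one, smul_mul_assoc,
      one_mul, smul_mul_assoc, one_mul, mul_smul_comm, smul_mul_assoc]

/-- If `σ(B) = g⁻¹ N g` and `P` kills `B`, then `σ(P)` kills `N`. -/
theorem aeval_eq_zero_of_conj (σ : F ≃+* F) {g : GL (Fin n) F} {B N : MM} {P : F[X]}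
    (h : B.map σ = (g⁻¹ : GL (Fin n) F).1 * N * g.1) (hP : aeval B P = 0) :
    aeval N (P.map σ.toRingHom) = 0 := by
  have h1 := aeval_units_conj g N (P.map σ.toRingHom)
  rw [← h, aeval_map_ringEquiv, hP, Matrix.map_zero _ (map_zero σ)] at h1
  have h2 := congrArg (fun M => g.1 * M * (g⁻¹ : GL (Fin n) F).1) h1.symm
  simpa [mul_assoc, Units.mul_inv_cancel_left] using h2

theorem glIota_one : glIota (1 : GL (Fin n) F) = 1 := by
  apply Units.ext; simp [glIota_coe]

theorem glIota_glIota (h : GL (Fin n) F) : glIota (glIota h) = h := by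
  apply Units.ext
  rw [glIota_coe, glIota_inv_coe, transpose_transpose]

theorem glField_glIota (σ : F ≃+* F) (h : GL (Fin n) F) :
    glField σ (glIota h) = glIota (glField σ h) := by
  apply Units.ext
  rw [glField_coe, glIota_coe, glIota_coe, ← map_inv, glField_coe, transpose_map]

theorem glFieldOne (g : GL (Fin n) F) : glField (1 : F ≃+* F) g = g := by
  apply Units.ext; ext i j; rfl

/-- The correct norm relation for a coset with graph part. -/
theorem graph_cocy (g : GL (Fin n) F) (σ : F ≃+* F) (k : ℕ) :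
    cocy (σ * σ) (g * glField σ (glIota g)) k * glField ((σ * σ) ^ k) g =
      g * glField σ (glIota (cocy (σ * σ) (g * glField σ (glIota g)) k)) := by
  have hmul : ∀ a b, glField (σ * σ) (a : GL (Fin n) F) = b ↔ glField σ (glField σ a) = b := fun a b => by
    rw [show glField (σ * σ) a = glField σ (glField σ a) by
      apply Units.ext; simp only [glField_coe, Matrix.map_map]; rfl]
  induction k with
  | zero =>
    simp only [cocy, pow_zero, glIota_one, map_one, one_mul, mul_one]
    exact glFieldOne g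
  | succ k ih =>
    set c := cocy (σ * σ) (g * glField σ (glIota g)) k
    have h2 : ∀ a, glField (σ * σ) (a : GL (Fin n) F) = glField σ (glField σ a) := fun a =>
      (hmul a _).2 rfl
    rw [show cocy (σ * σ) (g * glField σ (glIota g)) (k + 1) =
      g * glField σ (glIota g) * glField (σ * σ) c from rfl, mul_assoc, ← glField_pow_succ, ← map_mul, ih,
      h2, h2]
    simp only [map_mul, glIota_mul, glField_glIota, glIota_glIota, mul_assoc]

end matrix

section bound

variable {F : Type*} [Field F] [Fintype F] {n : ℕ}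

/-- The facts about the minimal polynomial of a norm element. -/
theorem exists_power_semilinear (hn : 2 ≤ n) (g : GL (Fin n) F) (τ : F ≃+* F) :
    ∃ k, 0 < k ∧ (conjAut g * fieldAut τ : MulAut (PSLG n F)) ^ (orderOf τ * k) = 1 ∧
      (Nat.card (fixedSub τ) - 1) * k ≤ Nat.card (fixedSub τ) ^ n - 1 := by
  have : Nonempty (Fin n) := ⟨⟨0, by omega⟩⟩
  set e := orderOf τ
  set N := cocy τ g e with hN
  have hrel : glField τ N = g⁻¹ * N * g := by
    have h1 := cocy_succ_right τ g e
    rw [show cocy τ g (e + 1) = g * glField τ (cocy τ g e) from rfl, pow_orderOf_eq_one, glFieldOne] at h1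
    rw [← hN] at h1
    rw [mul_assoc, ← h1, inv_mul_cancel_left]
  set μ := minpoly F N.1 with hμdef
  have hint : IsIntegral F N.1 := Matrix.isIntegral _
  have hμm : μ.Monic := minpoly.monic hint
  have hμτ : μ.map τ.toRingHom = μ := by
    have hz : aeval N.1 (μ.map τ.toRingHom) = 0 :=
      aeval_eq_zero_of_conj τ (B := N.1) (by rw [← glField_coe, hrel]; rfl) (minpoly.aeval F N.1)
    exact (eq_of_monic_of_dvd_of_natDegree_le hμm (hμm.map _) (minpoly.dvd F _ hz)
      (natDegree_map _).le)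
  have hlift : μ ∈ Polynomial.lifts (fixedSub τ).subtype := by
    rw [lifts_iff_coeff_lifts]
    intro i
    have hc : τ (μ.coeff i) = μ.coeff i := by
      conv_rhs => rw [← hμτ]
      rw [coeff_map]; rfl
    exact ⟨⟨μ.coeff i, hc⟩, rfl⟩
  obtain ⟨μ0, hμ0, hdeg0, hm0⟩ := lifts_and_natDegree_eq_and_monic hlift hμm
  have hc0 : μ0.coeff 0 ≠ 0 := by
    intro h
    refine ReciprocalOrder.coeff_zero_minpoly_ne_zero (A := N.1) (B := (N⁻¹ : GL (Fin n) F).1)
      (Units.inv_mul N) ?_
    rw [← hμdef, ← hμ0, coeff_map, h, map_zero]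
  obtain ⟨k, hk, ⟨c, hc⟩, hle⟩ := exists_projective_exponent hm0 hc0
    (by rw [hdeg0]; exact minpoly.natDegree_pos hint)
  refine ⟨k, hk, ?_, hle.trans (Nat.sub_le_sub_right (Nat.pow_le_pow_right Nat.card_pos ?_) 1)⟩
  · have hd : μ ∣ X ^ k - C (c : F) := by
      have := Polynomial.map_dvd (fixedSub τ).subtype hc
      rwa [hμ0, Polynomial.map_sub, Polynomial.map_pow, map_X, map_C] at this
    obtain ⟨r, hr⟩ := hd
    have h0 : aeval N.1 (X ^ k - C (c : F)) = 0 := by rw [hr, map_mul, minpoly.aeval, zero_mul]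
    simp only [map_sub, map_pow, aeval_X, aeval_C, sub_eq_zero, Algebra.algebraMap_eq_smul_one] at h0
    have hc' : (c : F) ≠ 0 := by
      intro hc'
      rw [hc', zero_smul] at h0
      have h5 := congrArg Matrix.det h0
      rw [det_pow, det_zero] at h5
      exact pow_ne_zero _ (Matrix.GeneralLinearGroup.det N).ne_zero h5
    rw [pow_mul, conj_field_pow, pow_orderOf_eq_one, map_one, mul_one, ← map_pow, conjAut_eq_one_iff hn]
    refine ⟨Units.mk0 _ hc', Units.ext ?_⟩
    rw [Units.val_pow_eq_pow_val, ← hN, h0]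
    simp [Matrix.smul_one_eq_diagonal]
  · rw [hdeg0]
    have := natDegree_le_of_dvd (Matrix.minpoly_dvd_charpoly N.1) (Matrix.charpoly_monic _).ne_zero
    rwa [Matrix.charpoly_natDegree_eq_dim, Fintype.card_fin] at this

theorem card_eq_fixed_pow (τ : F ≃+* F) :
    Fintype.card F = Nat.card (fixedSub τ) ^ orderOf τ ∧ 2 ≤ Nat.card (fixedSub τ) := by
  refine ⟨by rw [← natCard_fixedSub, Nat.card_eq_fintype_card], ?_⟩
  have := Fintype.ofFinite (fixedSub τ)
  rw [Nat.card_eq_fintype_card]; exact Fintype.one_lt_card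

theorem orderOf_semilinear_le (hn : 2 ≤ n) (h24 : ¬ (n = 2 ∧ Fintype.card F = 4)) (g : GL (Fin n) F)
    (τ : F ≃+* F) :
    (Fintype.card F - 1) * orderOf (conjAut g * fieldAut τ : MulAut (PSLG n F)) ≤
      Fintype.card F ^ n - 1 := by
  obtain ⟨k, hk, hpow, hle⟩ := exists_power_semilinear hn g τ
  obtain ⟨hq, hq0⟩ := card_eq_fixed_pow τ
  rw [hq]
  refine bound_of_fixed (c := 1) hq0 ?_ hle ?_
  · rw [one_mul]
    refine mul_gs_le hq0 hn fun h => h24 ⟨h.2.2, ?_⟩
    rw [hq, h.1, h.2.1]; rfl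
  · rw [one_mul]
    exact Nat.le_of_dvd (Nat.mul_pos (orderOf_pos τ) hk) (orderOf_dvd_of_pow_eq_one hpow)

theorem graph_sq (g : GL (Fin n) F) (σ : F ≃+* F) :
    (conjAut g * fieldAut σ * iotaAut : MulAut (PSLG n F)) ^ 2 =
      conjAut (g * glField σ (glIota g)) * fieldAut (σ * σ) := by
  rw [pow_two]
  calc (conjAut g * fieldAut σ * iotaAut : MulAut (PSLG n F)) * (conjAut g * fieldAut σ * iotaAut)
      = conjAut g * (fieldAut σ * (iotaAut * conjAut g)) * fieldAut σ * iotaAut := by
        simp only [mul_assoc]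
    _ = conjAut g * (fieldAut σ * conjAut (glIota g)) * iotaAut * fieldAut σ * iotaAut := by
        rw [iotaAut_mul_conjAut]; simp only [mul_assoc]
    _ = conjAut g * conjAut (glField σ (glIota g)) * fieldAut σ * (iotaAut * fieldAut σ) * iotaAut := by
        rw [fieldAut_mul_conjAut]; simp only [mul_assoc]
    _ = _ := by
        rw [iotaAut_mul_fieldAut, map_mul, map_mul]
        simp only [mul_assoc, iotaAut_sq, mul_one]

theorem exists_power_graph_linear (hn : 3 ≤ n) (h32 : ¬ (n = 3 ∧ Fintype.card F = 2)) (g : GL (Fin n) F)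
    {σ : F ≃+* F} (hσ : σ * σ = 1) :
    ∃ k, 0 < k ∧ (conjAut g * fieldAut σ * iotaAut : MulAut (PSLG n F)) ^ (2 * k) = 1 ∧
      2 * ((Fintype.card F - 1) * k) ≤ Fintype.card F ^ n - 1 := by
  have : Nonempty (Fin n) := ⟨⟨0, by omega⟩⟩
  set N := g * glField σ (glIota g) with hN
  have hrel : glField σ (glIota N) = g⁻¹ * N * g := by
    have h1 := graph_cocy g σ 1
    rw [hσ, pow_one, glFieldOne, show cocy (1 : F ≃+* F) N 1 = N * glField 1 1 from rfl, map_one,
      mul_one] at h1
    rw [mul_assoc, h1, inv_mul_cancel_left]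
  set μ := minpoly F N.1 with hμdef
  have hint : IsIntegral F N.1 := Matrix.isIntegral _
  have hμm : μ.Monic := minpoly.monic hint
  have hμd : μ.natDegree ≤ n := by
    have := natDegree_le_of_dvd (Matrix.minpoly_dvd_charpoly N.1) (Matrix.charpoly_monic _).ne_zero
    rwa [Matrix.charpoly_natDegree_eq_dim, Fintype.card_fin] at this
  have hc0 : μ.coeff 0 ≠ 0 :=
    ReciprocalOrder.coeff_zero_minpoly_ne_zero (A := N.1) (B := (N⁻¹ : GL (Fin n) F).1) (Units.inv_mul N)
  have hrec : μ ∣ μ.reverse.map σ.toRingHom := by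
    refine minpoly.dvd F _ (aeval_eq_zero_of_conj σ (B := (glIota N).1) (g := g) ?_ ?_)
    · rw [← glField_coe, hrel]; rfl
    · rw [glIota_coe, aeval_transpose, reverse,
        ReciprocalOrder.aeval_reflect_inv (A := (N⁻¹ : GL (Fin n) F).1) (B := N.1) (Units.mul_inv N) _ μ le_rfl,
        minpoly.aeval, mul_zero, transpose_zero]
  have hsmall : ∃ k, 0 < k ∧ (∃ c : F, μ ∣ X ^ k - C c) ∧
      2 * ((Fintype.card F - 1) * k) ≤ Fintype.card F ^ n - 1 := by
    rw [← Nat.card_eq_fintype_card] at h32 ⊢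
    rcases Nat.lt_or_ge μ.natDegree n with hlt | hge
    · obtain ⟨k, hk, hc, hle⟩ := exists_projective_exponent hμm hc0 (minpoly.natDegree_pos hint)
      refine ⟨k, hk, hc, (Nat.mul_le_mul_left 2 hle).trans ?_⟩
      have h2 : 2 ≤ Nat.card F := by rw [Nat.card_eq_fintype_card]; exact Fintype.one_lt_card
      have h3 : Nat.card F * Nat.card F ^ μ.natDegree ≤ Nat.card F ^ n := by
        rw [← pow_succ']; exact Nat.pow_le_pow_right (by omega) hlt
      have h4 := Nat.mul_le_mul_right (Nat.card F ^ μ.natDegree) h2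
      omega
    · have hd : μ.natDegree = n := le_antisymm hμd hge
      rw [← hd] at h32 ⊢
      exact exists_exponent_of_reciprocal hμm hc0 (by omega)
        (fun h => h32 ⟨h.2, h.1⟩) σ hrec
  obtain ⟨k, hk, ⟨c, hdvd⟩, hle⟩ := hsmall
  refine ⟨k, hk, ?_, hle⟩
  obtain ⟨r, hr⟩ := hdvd
  have h0 : aeval N.1 (X ^ k - C c) = 0 := by rw [hr, map_mul, minpoly.aeval, zero_mul]
  simp only [map_sub, map_pow, aeval_X, aeval_C, sub_eq_zero, Algebra.algebraMap_eq_smul_one] at h0
  have hc' : c ≠ 0 := by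
    intro hc'
    rw [hc', zero_smul] at h0
    have h5 := congrArg Matrix.det h0
    rw [det_pow, det_zero] at h5
    exact pow_ne_zero _ (Matrix.GeneralLinearGroup.det N).ne_zero h5
  rw [pow_mul, graph_sq, hσ, map_one, mul_one, ← map_pow, conjAut_eq_one_iff (by omega)]
  refine ⟨Units.mk0 _ hc', Units.ext ?_⟩
  rw [Units.val_pow_eq_pow_val, ← hN, h0]
  simp [Matrix.smul_one_eq_diagonal]

theorem orderOf_graph_le (hn : 3 ≤ n) (h32 : ¬ (n = 3 ∧ Fintype.card F = 2)) (g : GL (Fin n) F)
    (σ : F ≃+* F) :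
    (Fintype.card F - 1) * orderOf (conjAut g * fieldAut σ * iotaAut : MulAut (PSLG n F)) ≤
      Fintype.card F ^ n - 1 := by
  by_cases hσ : σ * σ = 1
  · obtain ⟨k, hk, hpow, hle⟩ := exists_power_graph_linear hn h32 g hσ
    refine le_trans (Nat.mul_le_mul_left _ (Nat.le_of_dvd (by omega) (orderOf_dvd_of_pow_eq_one hpow))) ?_
    rwa [mul_left_comm]
  · obtain ⟨k, hk, hpow, hle⟩ := exists_power_semilinear (by omega) (g * glField σ (glIota g)) (σ * σ)
    rw [← graph_sq, ← pow_mul] at hpow
    obtain ⟨hq, hq0⟩ := card_eq_fixed_pow (σ * σ)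
    have he : 2 ≤ orderOf (σ * σ) := by
      have h1 : orderOf (σ * σ) ≠ 1 := fun h => hσ (orderOf_eq_one_iff.1 h)
      have := orderOf_pos (σ * σ)
      omega
    rw [hq]
    refine bound_of_fixed (c := 2) hq0 (two_mul_gs_le hq0 hn he ?_) hle ?_
    · rintro ⟨hq2, he2⟩
      rw [hq2, he2] at hq
      have : Fact (Nat.Prime 2) := ⟨Nat.prime_two⟩
      have h2 := CfsgLib.FieldGalois.orderOf_dvd (p := 2) (f := 2) hq σ
      have h4 := orderOf_dvd_iff_pow_eq_one.1 h2
      exact hσ (by rw [← pow_two, h4])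
    · exact Nat.le_of_dvd (Nat.mul_pos (Nat.mul_pos two_pos (orderOf_pos _)) hk)
        (orderOf_dvd_of_pow_eq_one (by rw [Nat.mul_assoc]; exact hpow))

end bound

end CfsgLib.AutOrder51
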